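import Cfsg.Agent.Lib.Coset.Action

/-!
An element of a permutation group no larger than its chain of orbits is fixed by its action on the
base points.
-/

set_option autoImplicit false

namespace Cfsg.Agent.Lib.Coset.Tab

variable {P : Tab}

theorem chain_letters_lt : ∀ {R : List Level}, P.chainOK R = true → ∀ l ∈ R, ∀ w ∈ l.2.1, ∀ g ∈ w,
    g < P.gens := by
  intro R
  induction R with
  | nil => simp
  | cons a R ih =>
    obtain ⟨b', ws', ss'⟩ := a
    intro hR l hl w hw g hg
    simp only [chainOK, Bool.and_eq_true] at hR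
    rcases List.mem_cons.1 hl with rfl | hl
    · have := hR.1.1
      simp only [orbitOK, Bool.and_eq_true, List.all_eq_true, decide_eq_true_eq] at this
      exact this.1.2 w hw g hg
    · exact ih hR.2 l hl w hw g hg

theorem eq_one_of_fix_bases (h : P.Good) : ∀ {L : List Level} {K : Subgroup (Equiv.Perm (Fin P.size))},
    P.chainOK L = true → (∀ l ∈ L, ∀ w ∈ l.2.1, ev (P.perm h) w ∈ K) → Nat.card K ≤ chainCard L →
    ∀ x ∈ K, (∀ l ∈ L, ∀ i : Fin P.size, (i : ℕ) = l.1 → x i = i) → x = 1
  | [], K, _, _, hle, x, hx, _ =>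
    (Subgroup.eq_bot_iff_forall K).1 (Subgroup.eq_bot_of_card_le K hle) x hx
  | (b, ws, ss) :: rest, K, hok, hK, hle, x, hx, hfixed => by
    simp only [chainOK, Bool.and_eq_true, List.all_eq_true, beq_iff_eq] at hok
    obtain ⟨⟨ho, hfix⟩, hrest⟩ := hok
    have hb : b < P.size := by
      simp only [orbitOK, Bool.and_eq_true, decide_eq_true_eq] at ho; exact ho.1.1
    obtain ⟨S, hS, horb, -⟩ := orbit_spec h ho (hK (b, ws, ss) (by simp)) hb
    let x0 : Fin P.size := ⟨b, hb⟩
    have hmul : (MulAction.orbit K x0).ncard * Nat.card (MulAction.stabilizer K x0) = Nat.card K := by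
      rw [← Nat.card_coe_set_eq, Nat.card_congr (MulAction.orbitEquivQuotientStabilizer K x0)]
      exact Subgroup.index_mul_card _
    have horb' : ss.length + 1 ≤ (MulAction.orbit K x0).ncard := by
      rw [← hS, ← Set.ncard_coe_finset]
      exact Set.ncard_le_ncard (fun x hx => horb x hx) (Set.toFinite _)
    have hstab : Nat.card (MulAction.stabilizer K x0) ≤ chainCard rest := by
      rw [chainCard, ← hmul] at hle
      exact Nat.le_of_mul_le_mul_left ((Nat.mul_le_mul_right _ horb').trans hle) (Nat.succ_pos _)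
    refine eq_one_of_fix_bases h hrest (K := (MulAction.stabilizer K x0).map K.subtype)
      (fun l hl w hw => ⟨⟨_, hK l (List.mem_cons_of_mem _ hl) w hw⟩,
        Fin.ext ((ev_perm_apply h w (chain_letters_lt hrest l hl w hw) x0).trans (hfix l hl w hw)),
        rfl⟩) ?_ x ⟨⟨x, hx⟩, hfixed (b, ws, ss) (List.mem_cons_self ..) x0 rfl, rfl⟩
      fun l hl => hfixed l (List.mem_cons_of_mem _ hl)
    rwa [Subgroup.card_map_of_injective K.subtype_injective]

end Cfsg.Agent.Lib.Coset.Tab
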