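import Cfsg.Agent.Lib.SchurMult.Held.Data
import Cfsg.Agent.Lib.SchurMult.Held.Faithful
import Cfsg.Agent.Lib.SchurMult.GolayEngine
import Cfsg.Agent.Lib.SporPres.He.Order

/-!
The multiplier certificates evaluated on the images of four base points under the Held group.
-/

set_option autoImplicit false
set_option maxRecDepth 100000

namespace Cfsg.Agent.Lib.SchurMult.Held

open Cfsg Cfsg.Agent.Lib.Coset Cfsg.Agent.Lib.SporPres.He

/-- The element of a word. -/
noncomputable def elt (w : List ℕ) : Cfsg.Spor.He := ev φ w

theorem elt_append (v w : List ℕ) : elt (v ++ w) = elt v * elt w := by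
  simp [elt, Coset.ev_append]

/-- The base points. -/
def base : List ℕ := [0, 1, 1066, 2]

theorem base_spec : chain.map (fun l => l.1) = base ∧ base.all (· < tab.size) = true := by
  decide +kernel

/-- The word in the seven involutions of a word in given generators. -/
def gword (gens : List (List ℕ)) (w : List ℕ) : List ℕ := w.flatMap fun i => gens.getD i []

/-- All letters name generators. -/
def lettersOK (gens : List (List ℕ)) : Bool := gens.all fun w => w.all fun a => decide (a < tab.gens)

/-- Two words agree on the base points. -/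
noncomputable def same (v w : List ℕ) : Bool :=
  base.all fun b => Nat.beq (tab.app v b) (tab.app w b)

/-- The key of a word. -/
noncomputable def key (w : List ℕ) : ℕ := base.foldr (fun b acc => tab.app w b + 4096 * acc) 0

theorem app_eq {w : List ℕ} (hw : ∀ a ∈ w, a < tab.gens) {b : ℕ} (hb : b < tab.size) :
    tab.app w b = (act (elt w) ⟨b, hb⟩ : ℕ) := by
  rw [elt, act_ev w (List.all_eq_true.2 fun a ha => decide_eq_true (hw a ha)),
    Tab.ev_perm_apply good w hw]

theorem base_lt_size {b : ℕ} (hb : b ∈ base) : b < tab.size := by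
  simpa using List.all_eq_true.1 base_spec.2 b hb

theorem eq_one_of_base {g : Cfsg.Spor.He} (h : ∀ i : Fin tab.size, (i : ℕ) ∈ base → act g i = i) :
    g = 1 := by
  have hK : Nat.card act.range ≤ Tab.chainCard chain := by
    have hc : Tab.chainCard chain = 4030387200 := by decide +kernel
    rw [hc, ← card_and_inj.1, Nat.card_congr (MonoidHom.ofInjective card_and_inj.2).toEquiv]
  have hw : ∀ l ∈ chain, ∀ w ∈ l.2.1, ev (tab.perm good) w ∈ act.range := fun l hl w hw => by
    have hlt := List.all_eq_true.1 chain_letters l hl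
    exact ⟨ev φ w, act_ev w (List.all_eq_true.1 hlt w hw)⟩
  refine card_and_inj.2 ?_
  rw [map_one]
  refine Tab.eq_one_of_fix_bases good chain_ok hw hK (act g) ⟨g, rfl⟩ fun l hl i hi => h i ?_
  rw [hi, ← base_spec.1]
  exact List.mem_map.2 ⟨l, hl, rfl⟩

theorem same_spec {v w : List ℕ} (hv : ∀ a ∈ v, a < tab.gens) (hw : ∀ a ∈ w, a < tab.gens)
    (h : same v w = true) : elt v = elt w := by
  simp only [same, List.all_eq_true, Nat.beq_eq] at h
  refine (eq_of_inv_mul_eq_one (a := elt v) (b := elt w) ?_)
  refine eq_one_of_base fun i hi => ?_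
  rw [map_mul, map_inv, Equiv.Perm.mul_apply, Equiv.Perm.inv_eq_iff_eq]
  refine Fin.ext ?_
  rw [← app_eq hv i.2, ← app_eq hw i.2]
  exact (h i hi).symm

theorem key_congr {v w : List ℕ} (hv : ∀ a ∈ v, a < tab.gens) (hw : ∀ a ∈ w, a < tab.gens)
    (h : elt v = elt w) : key v = key w := by
  have e : ∀ b ∈ base, tab.app v b = tab.app w b := fun b hb => by
    rw [app_eq hv (base_lt_size hb), app_eq hw (base_lt_size hb), h]
  simp only [key, base, List.foldr_cons, List.foldr_nil]
  rw [e 0 (by simp [base]), e 1 (by simp [base]), e 1066 (by simp [base]), e 2 (by simp [base])]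

theorem gword_lt {gens : List (List ℕ)} (h : lettersOK gens = true) (w : List ℕ) :
    ∀ a ∈ gword gens w, a < tab.gens := by
  intro a ha
  obtain ⟨i, -, hi⟩ := List.mem_flatMap.1 ha
  simp only [lettersOK, List.all_eq_true, decide_eq_true_eq] at h
  rcases Nat.lt_or_ge i gens.length with hlt | hge
  · rw [List.getD_eq_getElem _ _ hlt] at hi
    exact h _ (List.getElem_mem _) a hi
  · rw [List.getD_eq_default _ _ hge] at hi
    simp at hi

theorem getD_lt {conj : List (List ℕ)} (h : lettersOK conj = true) (k : ℕ) :
    ∀ a ∈ conj.getD k [], a < tab.gens := by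
  simpa [gword] using gword_lt h [k]

variable (D : Engine.Data) (gens conj : List (List ℕ)) (sorted keys : List ℕ)

/-- The relation checks on a range. -/
noncomputable def relOK (lo len : ℕ) : Bool :=
  (List.range len).all fun k => same (gword gens (D.lhsAt (lo + k))) (gword gens (D.rhsAt (lo + k)))

/-- The key checks on a range. -/
noncomputable def keyOK (lo len : ℕ) : Bool :=
  ((sorted.drop lo).take len).map (fun k => key (gword gens (D.word k))) == (keys.drop lo).take len

/-- The checks of the order of the keys. -/
def sortOK : Bool :=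
  decide (sorted.length = D.p ^ D.n) && sorted.all (fun k => decide (k < D.p ^ D.n)) &&
  decide (keys.length = sorted.length) && GolayEngine.increasing keys

/-- The check of an equation. -/
noncomputable def eqnOK : Engine.Eqn → Bool
  | .cons _ _ => true
  | .fus k x y x' y' =>
    same (conj.getD k [] ++ gword gens x) (gword gens x' ++ conj.getD k []) &&
    same (conj.getD k [] ++ gword gens y) (gword gens y' ++ conj.getD k [])

variable {D gens conj sorted keys}

theorem ev_gword (w : List ℕ) : Engine.Data.ev (fun i => elt (gens.getD i [])) w = elt (gword gens w) := by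
  induction w with
  | nil => rfl
  | cons i w ih =>
    simp only [Engine.Data.ev, List.map_cons, List.prod_cons, gword, List.flatMap_cons] at ih ⊢
    rw [ih, elt_append]

theorem bound {Γ : Type} [Group Γ] [Finite Γ] [Finite Cfsg.Spor.He] {σ : Γ →* Cfsg.Spor.He}
    (hσ : Cfsg.IsStemExtension σ) {p : ℕ} [Fact p.Prime] (hp : D.p = p)
    (hall : D.allOK = true) (hg : lettersOK gens = true) (hc : lettersOK conj = true)
    (rparts : List (ℕ × ℕ)) (hrp : ∀ q ∈ rparts, relOK D gens q.1 q.2 = true)
    (hrc : ∀ k < D.nv, ∃ q ∈ rparts, q.1 ≤ k ∧ k < q.1 + q.2)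
    (hsort : sortOK D sorted keys = true)
    (kparts : List (ℕ × ℕ)) (hkp : ∀ q ∈ kparts, keyOK D gens sorted keys q.1 q.2 = true)
    (hkc : ∀ k < D.p ^ D.n, ∃ q ∈ kparts, q.1 ≤ k ∧ k < q.1 + q.2)
    (heq : D.eqs.all (eqnOK gens conj) = true)
    (hcard : (Nat.card Cfsg.Spor.He).factorization p = D.n) {k : ℕ} (hk : p ^ k ∣ Nat.card σ.ker) :
    p ^ k ∣ D.bound := by
  simp only [sortOK, Bool.and_eq_true, List.all_eq_true, decide_eq_true_eq] at hsort
  obtain ⟨⟨⟨hlen, hlt⟩, hkl⟩, hinc0⟩ := hsort
  simp only [List.all_eq_true] at heq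
  have hrel : ∀ j < D.nv, same (gword gens (D.lhsAt j)) (gword gens (D.rhsAt j)) = true := fun j hj => by
    obtain ⟨q, hq, h1, h2⟩ := hrc j hj
    have h := hrp q hq
    simp only [relOK, List.all_eq_true, List.mem_range] at h
    have := h (j - q.1) (by omega)
    rwa [show q.1 + (j - q.1) = j by omega] at this
  have hkeys : sorted.map (fun k => key (gword gens (D.word k))) = keys := by
    refine List.ext_getElem (by simp [hkl]) fun j h1 h2 => ?_
    rw [List.length_map, hlen] at h1
    obtain ⟨q, hq, g1, g2⟩ := hkc j h1
    have h := hkp q hq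
    simp only [keyOK, beq_iff_eq] at h
    have he := congrArg (fun l => l[j - q.1]?) h
    simp only [List.getElem?_map, List.getElem?_take, if_pos (show j - q.1 < q.2 by omega),
      List.getElem?_drop, show q.1 + (j - q.1) = j by omega,
      List.getElem?_eq_getElem (show j < sorted.length by omega), List.getElem?_eq_getElem h2,
      Option.map_some, Option.some.injEq] at he
    simpa using he
  have hinc : GolayEngine.increasing (sorted.map fun k => key (gword gens (D.word k))) = true := by
    rw [hkeys]; exact hinc0
  refine Engine.bound_main D hσ hp hall (fun i => elt (gens.getD i [])) (fun i => elt (conj.getD i []))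
    (fun j hj => ?_) (fun a ha b hb hab => ?_) (fun e he => ?_) hcard hk
  · rw [ev_gword, ev_gword]
    exact same_spec (gword_lt hg _) (gword_lt hg _) (hrel j hj)
  · have hpw := GolayEngine.pairwise_of_increasing _ hinc
    have hnd : sorted.Nodup := List.Nodup.of_map _ (hpw.imp fun h => h.ne)
    have hperm : ∀ c, c < D.p ^ D.n → c ∈ sorted := by
      intro c hc
      have hsub : sorted.toFinset ⊆ Finset.range (D.p ^ D.n) := fun x hx =>
        Finset.mem_range.2 (hlt x (List.mem_toFinset.1 hx))
      have := Finset.eq_of_subset_of_card_le hsub (by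
        rw [List.toFinset_card_of_nodup hnd, hlen, Finset.card_range])
      rw [← List.mem_toFinset, this, Finset.mem_range]
      exact hc
    rw [ev_gword, ev_gword] at hab
    exact List.inj_on_of_nodup_map (hpw.imp fun h => h.ne) (hperm a ha) (hperm b hb)
      (key_congr (gword_lt hg _) (gword_lt hg _) hab)
  · rcases e with ⟨u, v⟩ | ⟨j, x, y, x', y'⟩
    · trivial
    · have h := heq _ he
      simp only [eqnOK, Bool.and_eq_true] at h
      refine ⟨?_, ?_⟩ <;> rw [ev_gword, ev_gword, ← elt_append, ← elt_append]
      · exact same_spec (List.forall_mem_append.2 ⟨getD_lt hc j, gword_lt hg x⟩)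
          (List.forall_mem_append.2 ⟨gword_lt hg x', getD_lt hc j⟩) h.1
      · exact same_spec (List.forall_mem_append.2 ⟨getD_lt hc j, gword_lt hg y⟩)
          (List.forall_mem_append.2 ⟨gword_lt hg y', getD_lt hc j⟩) h.2

end Cfsg.Agent.Lib.SchurMult.Held
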