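import Cfsg.Agent.Lib.SchurMult.Held.Engine

/-! Kernel checks for the multiplier of the Held group. -/

set_option autoImplicit false
set_option maxRecDepth 100000

namespace Cfsg.Agent.Lib.SchurMult.Held

theorem key0 : keyOK dataTwo gensTwo sortedTwo keysTwo 0 128 = true := by decide +kernel

theorem key1 : keyOK dataTwo gensTwo sortedTwo keysTwo 128 128 = true := by decide +kernel

theorem key2 : keyOK dataTwo gensTwo sortedTwo keysTwo 256 128 = true := by decide +kernel

theorem key3 : keyOK dataTwo gensTwo sortedTwo keysTwo 384 128 = true := by decide +kernel


end Cfsg.Agent.Lib.SchurMult.Held
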