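import Cfsg.Agent.Lib.SchurMult.Held.Engine

/-! Kernel checks for the multiplier of the Held group. -/

set_option autoImplicit false
set_option maxRecDepth 100000

namespace Cfsg.Agent.Lib.SchurMult.Held

theorem rel0 : relOK dataTwo gensTwo 0 11 = true := by decide +kernel

theorem rel1 : relOK dataTwo gensTwo 11 11 = true := by decide +kernel

theorem rel2 : relOK dataTwo gensTwo 22 11 = true := by decide +kernel

theorem rel3 : relOK dataTwo gensTwo 33 11 = true := by decide +kernel

theorem rel4 : relOK dataTwo gensTwo 44 11 = true := by decide +kernel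

theorem relTwo : ∀ q ∈ [((0, 11) : ℕ × ℕ), ((11, 11) : ℕ × ℕ), ((22, 11) : ℕ × ℕ), ((33, 11) : ℕ × ℕ), ((44, 11) : ℕ × ℕ)], relOK dataTwo gensTwo q.1 q.2 = true := by
  simp only [List.forall_mem_cons, List.not_mem_nil, IsEmpty.forall_iff, implies_true, and_true]
  exact ⟨rel0, rel1, rel2, rel3, rel4⟩

theorem cover_two_rel : ∀ k < dataTwo.nv, ∃ q ∈ [((0, 11) : ℕ × ℕ), ((11, 11) : ℕ × ℕ), ((22, 11) : ℕ × ℕ), ((33, 11) : ℕ × ℕ), ((44, 11) : ℕ × ℕ)], q.1 ≤ k ∧ k < q.1 + q.2 := by
  intro k hk
  have hk : k < 55 := hk
  refine ⟨(k / 11 * 11, 11), ?_, by simp only; omega, by simp only; omega⟩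
  have : k / 11 < 5 := by omega
  interval_cases hq : k / 11 <;> simp

theorem lettersTwo : lettersOK gensTwo = true ∧ lettersOK conjTwo = true := by decide +kernel

theorem eqnTwo : dataTwo.eqs.all (eqnOK gensTwo conjTwo) = true := by decide +kernel

theorem sortTwo : sortOK dataTwo sortedTwo keysTwo = true := by decide +kernel

theorem lettersThree : lettersOK gensThree = true ∧ lettersOK conjThree = true := by decide +kernel

theorem eqnThree : dataThree.eqs.all (eqnOK gensThree conjThree) = true := by decide +kernel

theorem sortThree : sortOK dataThree sortedThree keysThree = true := by decide +kernel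

theorem relThree : relOK dataThree gensThree 0 6 = true := by decide +kernel

theorem keyThree : keyOK dataThree gensThree sortedThree keysThree 0 27 = true := by decide +kernel

theorem lettersFive : lettersOK gensFive = true ∧ lettersOK conjFive = true := by decide +kernel

theorem eqnFive : dataFive.eqs.all (eqnOK gensFive conjFive) = true := by decide +kernel

theorem sortFive : sortOK dataFive sortedFive keysFive = true := by decide +kernel

theorem relFive : relOK dataFive gensFive 0 3 = true := by decide +kernel

theorem keyFive : keyOK dataFive gensFive sortedFive keysFive 0 25 = true := by decide +kernel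

theorem lettersSeven : lettersOK gensSeven = true ∧ lettersOK conjSeven = true := by decide +kernel

theorem eqnSeven : dataSeven.eqs.all (eqnOK gensSeven conjSeven) = true := by decide +kernel

theorem sortSeven : sortOK dataSeven sortedSeven keysSeven = true := by decide +kernel

theorem relSeven : relOK dataSeven gensSeven 0 6 = true := by decide +kernel

theorem keySeven0 : keyOK dataSeven gensSeven sortedSeven keysSeven 0 180 = true := by decide +kernel

theorem keySeven1 : keyOK dataSeven gensSeven sortedSeven keysSeven 180 163 = true := by decide +kernel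


end Cfsg.Agent.Lib.SchurMult.Held
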