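import Cfsg.Agent.Lib.SchurMult.Held.Closed
import Cfsg.Agent.Lib.SchurMult.Held.Keys0
import Cfsg.Agent.Lib.SchurMult.Held.Keys1
import Cfsg.Agent.Lib.SchurMult.Held.Rels
import Cfsg.Agent.Lib.SchurMult.MathieuCommon

/-! Kernel checks for the multiplier of the Held group. -/

set_option autoImplicit false
set_option maxRecDepth 100000

namespace Cfsg.Agent.Lib.SchurMult.Held

theorem keyTwo : ∀ q ∈ [((0, 128) : ℕ × ℕ), ((128, 128) : ℕ × ℕ), ((256, 128) : ℕ × ℕ), ((384, 128) : ℕ × ℕ), ((512, 128) : ℕ × ℕ), ((640, 128) : ℕ × ℕ), ((768, 128) : ℕ × ℕ), ((896, 128) : ℕ × ℕ)], keyOK dataTwo gensTwo sortedTwo keysTwo q.1 q.2 = true := by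
  simp only [List.forall_mem_cons, List.not_mem_nil, IsEmpty.forall_iff, implies_true, and_true]
  exact ⟨key0, key1, key2, key3, key4, key5, key6, key7⟩

theorem hasTrivial : Cfsg.HasCyclicSchurMultiplier Cfsg.Spor.He 1 := by
  have hc : Nat.card Cfsg.Spor.He = 2 ^ 10 * 3 ^ 3 * 5 ^ 2 * 7 ^ 3 * 17 :=
    SporPres.He.card_and_inj.1.trans (by norm_num)
  haveI : Finite Cfsg.Spor.He := Nat.finite_of_card_ne_zero (by rw [hc]; norm_num)
  refine SchurMult.hasTrivial_of_not_dvd fun Δ _ _ τ hτ r hr hd => ?_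
  haveI := Fact.mk hr
  have hd' : r ^ 1 ∣ Nat.card τ.ker := by rwa [pow_one]
  by_cases h2 : r = 2
  · subst h2
    have := bound (p := 2) hτ rfl allTwo lettersTwo.1 lettersTwo.2 _ relTwo cover_two_rel sortTwo _ keyTwo
      cover_two eqnTwo
      (Mathieu.factorization_of (r := 3935925) Nat.prime_two (by rw [hc]; rfl) (by decide)) hd'
    exact absurd (Nat.le_of_dvd Nat.one_pos this) (by decide)
  by_cases h3 : r = 3
  · subst h3
    have := bound (p := 3) hτ rfl allThree lettersThree.1 lettersThree.2 [(0, 6)] (by simpa using relThree)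
      (fun k hk => ⟨(0, 6), List.mem_singleton_self _, Nat.zero_le _, (hk : k < 6)⟩) sortThree [(0, 27)]
      (by simpa using keyThree) (fun k hk => ⟨(0, 27), List.mem_singleton_self _, Nat.zero_le _, (hk : k < 27)⟩)
      eqnThree
      (Mathieu.factorization_of (r := 149273600) Nat.prime_three (by rw [hc]; rfl) (by decide)) hd'
    exact absurd (Nat.le_of_dvd Nat.one_pos this) (by decide)
  by_cases h5 : r = 5
  · subst h5
    have := bound (p := 5) hτ rfl allFive lettersFive.1 lettersFive.2 [(0, 3)] (by simpa using relFive)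
      (fun k hk => ⟨(0, 3), List.mem_singleton_self _, Nat.zero_le _, (hk : k < 3)⟩) sortFive [(0, 25)]
      (by simpa using keyFive) (fun k hk => ⟨(0, 25), List.mem_singleton_self _, Nat.zero_le _, (hk : k < 25)⟩)
      eqnFive
      (Mathieu.factorization_of (r := 161215488) (by norm_num) (by rw [hc]; rfl) (by decide)) hd'
    exact absurd (Nat.le_of_dvd Nat.one_pos this) (by decide)
  by_cases h7 : r = 7
  · subst h7
    have := bound (p := 7) hτ rfl allSeven lettersSeven.1 lettersSeven.2 [(0, 6)] (by simpa using relSeven)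
      (fun k hk => ⟨(0, 6), List.mem_singleton_self _, Nat.zero_le _, (hk : k < 6)⟩) sortSeven
      [(0, 180), (180, 163)] (by simpa using And.intro keySeven0 keySeven1)
      (fun k hk => by
        have hk : k < 343 := hk
        rcases Nat.lt_or_ge k 180 with h | h
        · exact ⟨(0, 180), by simp, Nat.zero_le _, by simpa using h⟩
        · exact ⟨(180, 163), by simp, h, by simpa using hk⟩)
      eqnSeven
      (Mathieu.factorization_of (r := 11750400) (by norm_num) (by rw [hc]; rfl) (by decide)) hd'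
    exact absurd (Nat.le_of_dvd Nat.one_pos this) (by decide)
  refine SchurMult.not_dvd_ker_of_sq hτ ?_ hd
  rw [hc]
  intro hdvd
  have hco : Nat.Coprime (r ^ 2) (2 ^ 10 * 3 ^ 3 * 5 ^ 2 * 7 ^ 3) :=
    (((Nat.coprime_primes hr Nat.prime_two).2 h2).pow 2 10).mul_right
      (((Nat.coprime_primes hr Nat.prime_three).2 h3).pow 2 3) |>.mul_right
        (((Nat.coprime_primes hr (by norm_num)).2 h5).pow 2 2) |>.mul_right
          (((Nat.coprime_primes hr (by norm_num)).2 h7).pow 2 3)
  have h := Nat.le_of_dvd (by norm_num) (hco.dvd_of_dvd_mul_left hdvd)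
  have : r ≤ 4 := by nlinarith
  have := hr.two_le
  interval_cases r <;> simp_all (config := { decide := true })

end Cfsg.Agent.Lib.SchurMult.Held
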